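import Cfsg.Agent.H661.SC.Fix
import Cfsg.Agent.H53.HC.Exc

/-!
# Fixed vectors of `p₀`-subgroups in the characters of groups with a root group datum (S4526, helper353)

Versions of `H53.HC.exists_over`, `exists_irr_MJ`, `Cusp.exists_prod`, `exists_irr_one`, `exists_irr_two` with `FixAll p₀`:
every `p₀`-subgroup has a nonzero fixed vector.

* `exists_irr_MJ_fix`, `Cusp.exists_prod_fix`, `exists_irr_one_fix`, `exists_irr_two_fix`;
* `InF`, `InA2F` : the inputs;  `InF.union`;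
* `imc_of_MJ`, `imc_of_none`, `imc_of_one`, `imc_of_one_ex`, `imc_of_two` : `IMC p₀ S`.
-/

set_option autoImplicit false

open scoped ComplexConjugate Pointwise
open Cfsg

namespace Cfsg.Agent.H353.IMC

open Cfsg.Agent.OddOrderCharacters.Clifford Cfsg.Agent.Characters Cfsg.Agent.H53.HC Cfsg.Agent.H661.SC
  Cfsg.Agent.H625.SylConst

universe u v

section clif

variable {G : Type u} [Group G] {p₀ : ℕ} [hp₀ : Fact p₀.Prime]

/-- **Clifford's theorem** for subgroups `N ≤ P ≤ N_G(N)`, with fixed vectors. -/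
theorem exists_over_fix [Finite G] {N P : Subgroup G} (hNP : N ≤ P) (hn : P ≤ Subgroup.normalizer (N : Set G))
    {θ : N → ℂ} (hθ : IsIrrCharacter N θ) (hf : FixAll p₀ θ) :
    ∃ ψ : P → ℂ, IsIrrCharacter P ψ ∧ FixAll p₀ ψ ∧ (∃ m : ℕ, 0 < m ∧ ψ 1 = m * θ 1) ∧
      ∃ (c : ℂ) (s : Finset (N → ℂ)), (∀ x : N, ψ ⟨x, hNP x.2⟩ = c * ∑ φ ∈ s, φ x) ∧
        ∀ φ ∈ s, ∃ g ∈ P, ∀ x (hx : x ∈ N), ∃ hx' : g * x * g⁻¹ ∈ N, φ ⟨x, hx⟩ = θ ⟨g * x * g⁻¹, hx'⟩ := by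
  classical
  have : Fintype G := Fintype.ofFinite G
  have : Fintype P := Fintype.ofFinite P
  have : Fintype N := Fintype.ofFinite N
  let N' : Subgroup P := N.subgroupOf P
  have hN' : N'.Normal := (Subgroup.normal_subgroupOf_iff_le_normalizer hNP).2 hn
  have : Fintype N' := Fintype.ofFinite N'
  let e : N' ≃* N := Subgroup.subgroupOfEquivOfLe hNP
  have hθ' : IsIrrCharacter N' (θ ∘ e) := Core.isIrr_comp e.toMonoidHom e.surjective hθ
  have hf' : FixAll p₀ (θ ∘ e) := FixAll.comp e.toMonoidHom hf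
  obtain ⟨Q⟩ : Nonempty (Sylow p₀ P) := inferInstance
  obtain ⟨⟨ψ, hψ⟩, hne, hfix⟩ := H625.SylConst.exists_over N' (Q : Subgroup P) hθ'
    (hf' _ (Q.isPGroup'.comap_of_injective N'.subtype N'.subtype_injective))
  replace hne : classInner (fun n : N' => ψ n) (θ ∘ e) ≠ 0 := hne
  replace hfix : Fix (Q : Subgroup P) ψ := hfix
  refine ⟨ψ, hψ, FixAll.of_sylow (Core.isIrr_isCharacter hψ) Q hfix, ?_, classInner (fun n : N' => ψ n) (θ ∘ e),
    (Finset.univ.image (fun x : P => (θ ∘ e) ∘ (MulAut.conjNormal x : MulAut N'))).image (fun φ => φ ∘ e.symm), ?_, ?_⟩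
  · obtain ⟨m, hm⟩ := Cfsg.Agent.CharDeep.PowerDegrees.degree_dvd N' hψ hθ' hne
    have h1 : (θ ∘ e) 1 = θ 1 := by rw [Function.comp_apply, map_one]
    rw [h1] at hm
    refine ⟨m, Nat.pos_of_ne_zero ?_, hm⟩
    rintro rfl
    rw [Nat.cast_zero, zero_mul] at hm
    exact Core.isIrr_apply_one_ne_zero hψ hm
  · intro x
    have h1 := Cfsg.Agent.CharactersDeep.CliffordSum.restrict_eq_smul_sum N' hψ hθ' hne
    have h2 := congrFun h1 (e.symm x)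
    rw [Pi.smul_apply, Finset.sum_apply, smul_eq_mul] at h2
    rw [Finset.sum_image (by
      intro a _ b _ hab
      funext z
      have := congrFun hab (e z)
      simpa using this)]
    exact h2
  · intro φ hφ
    obtain ⟨φ', hφ', rfl⟩ := Finset.mem_image.1 hφ
    obtain ⟨g, -, rfl⟩ := Finset.mem_image.1 hφ'
    refine ⟨g, g.2, fun x hx => ?_⟩
    have h1 : (g : G) * x * (g : G)⁻¹ ∈ N := (Subgroup.mem_normalizer_iff.1 (hn g.2) x).1 hx
    refine ⟨h1, ?_⟩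
    rfl

omit hp₀ in
/-- fixed vectors of a product of `p₀`-subgroups -/
theorem fix_prod {G' : Type v} [Group G'] [Finite G] [Finite G'] (R : Subgroup G) (R' : Subgroup G') {α : G → ℂ}
    {β : G' → ℂ} (h : Fix R α) (h' : Fix R' β) : Fix (R.prod R') (fun x : G × G' => α x.1 * β x.2) := by
  classical
  have := Fintype.ofFinite R
  have := Fintype.ofFinite R'
  have := Fintype.ofFinite (R.prod R')
  rw [fix_iff] at h h' ⊢
  have e1 : ∑ z : R.prod R', (fun x : G × G' => α x.1 * β x.2) (z : G × G') =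
      ∑ w : R × R', α (w.1 : G) * β (w.2 : G') :=
    Fintype.sum_equiv (Subgroup.prodEquiv R R').toEquiv _ _ fun z => rfl
  rw [e1, Fintype.sum_prod_type]
  simp only [← Finset.mul_sum]
  rw [← Finset.sum_mul]
  exact mul_ne_zero h h'

omit hp₀ in
/-- the product of characters with fixed vectors -/
theorem fixAll_outer {G' : Type v} [Group G'] [Finite G] [Finite G'] {α : G → ℂ} {β : G' → ℂ}
    (hα : IsCharacter G α) (hβ : IsCharacter G' β) (h : FixAll p₀ α) (h' : FixAll p₀ β) :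
    FixAll p₀ (fun x : G × G' => α x.1 * β x.2) := by
  intro R hR
  have h1 : IsPGroup p₀ (R.map (MonoidHom.fst G G')) := hR.map _
  have h2 : IsPGroup p₀ (R.map (MonoidHom.snd G G')) := hR.map _
  have h3 : IsCharacter (G × G') (fun x : G × G' => α x.1 * β x.2) := by
    have e1 := Core.isCharacter_comp (MonoidHom.fst G G') hα
    have e2 := Core.isCharacter_comp (MonoidHom.snd G G') hβ
    exact Core.isCharacter_mul e1 e2
  refine Fix.mono (H := (R.map (MonoidHom.fst G G')).prod (R.map (MonoidHom.snd G G'))) ?_ h3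
    (fix_prod _ _ (h _ h1) (h' _ h2))
  intro x hx
  exact ⟨⟨x, hx, rfl⟩, ⟨x, hx, rfl⟩⟩

/-- surjective homomorphisms -/
theorem fixAll_of_comp [Finite G] {H : Type v} [Group H] [Finite H] (f : G →* H) (hs : Function.Surjective f)
    {χ : H → ℂ} (hχ : IsCharacter H χ) (h : FixAll p₀ (χ ∘ f)) : FixAll p₀ χ := by
  obtain ⟨P⟩ : Nonempty (Sylow p₀ G) := inferInstance
  exact FixAll.of_sylow hχ (P.mapSurjective hs) (fix_of_comp f (P : Subgroup G) (h _ P.isPGroup'))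

/-- **The product of characters of commuting subgroups.** -/
theorem fixAll_of_prod [Finite G] {H K L : Subgroup G} (hc : ∀ a ∈ H, ∀ b ∈ K, a * b = b * a) (hL : L = H ⊔ K)
    {α : H → ℂ} {β : K → ℂ} (hα : IsCharacter H α) (hβ : IsCharacter K β) (hfα : FixAll p₀ α) (hfβ : FixAll p₀ β)
    {ψ : L → ℂ} (hψ : IsCharacter L ψ)
    (hval : ∀ (a : G) (ha : a ∈ H) (b : G) (hb : b ∈ K), ∃ hab : a * b ∈ L, ψ ⟨a * b, hab⟩ = α ⟨a, ha⟩ * β ⟨b, hb⟩) :
    FixAll p₀ ψ := by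
  classical
  let f : H × K →* L :=
    { toFun := fun x => ⟨x.1 * x.2, (hval x.1 x.1.2 x.2 x.2.2).1⟩
      map_one' := by
        apply Subtype.ext
        simp
      map_mul' := by
        rintro ⟨a, b⟩ ⟨c, d⟩
        apply Subtype.ext
        change (a * c : G) * (b * d) = (a * b) * (c * d)
        have := hc c c.2 b b.2
        calc (a * c : G) * (b * d) = a * (c * b) * d := by group
          _ = a * (b * c) * d := by rw [this]
          _ = (a * b) * (c * d) := by group }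
  have hf : Function.Surjective f := by
    rintro ⟨x, hx⟩
    have hle : H ≤ Subgroup.normalizer (K : Set G) := by
      intro a ha
      rw [Subgroup.mem_normalizer_iff]
      intro b
      constructor
      · intro hb
        rw [hc a ha b hb, mul_inv_cancel_right]
        exact hb
      · intro hb
        have h1 := hc a⁻¹ (inv_mem ha) _ hb
        have h2 : b = a * b * a⁻¹ := by
          have h3 : a⁻¹ * (a * b * a⁻¹) = (a * b * a⁻¹) * a⁻¹ := h1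
          have h4 : b * a⁻¹ = (a * b * a⁻¹) * a⁻¹ := by rw [← h3]; group
          exact mul_right_cancel h4
        rw [h2]
        exact hb
    have h1 : x ∈ ((H ⊔ K : Subgroup G) : Set G) := by rw [← hL]; exact hx
    rw [Subgroup.coe_mul_of_left_le_normalizer_right _ _ hle] at h1
    obtain ⟨a, ha, b, hb, rfl⟩ := h1
    exact ⟨(⟨a, ha⟩, ⟨b, hb⟩), rfl⟩
  refine fixAll_of_comp f hf hψ ?_
  have e1 : ψ ∘ f = fun x : H × K => α x.1 * β x.2 := by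
    funext x
    exact (hval x.1 x.1.2 x.2 x.2.2).2
  rw [e1]
  exact fixAll_outer hα hβ hfα hfβ

end clif

section rgd

open CoxeterSystem Cfsg.Agent.ChevalleyStructure.CoxeterGeom Cfsg.Agent.Tits.Roots Cfsg.Agent.Tits.Core
  Cfsg.Agent.Tits.Exchange Cfsg.Agent.Nodes.Reps Cfsg.Agent.Nodes.BNOf Cfsg.Agent.Nodes.StabComb
  Cfsg.Agent.Nodes.Bruhat Cfsg.Agent.Nodes.OppDec Cfsg.Agent.Nodes.LeviDec

variable {I : Type*} {W : Type*} {Y : Type u} [Fintype I] [DecidableEq I] [Group W] [Group Y] {M : CoxeterMatrix I}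
  {cs : CoxeterSystem M W} {A : I → I → ℤ} {h : IsCartan M A} {p : ℕ} {T : Subgroup Y} {n : I → Y}
  {X : (I → ℤ) → Subgroup Y} {p₀ : ℕ} [hp₀ : Fact p₀.Prime]

variable (R : RGD cs h p T n X)

include R

omit hp₀ in
/-- **Inflation** of an irreducible character of `L_J` to `P_J`, with fixed vectors. -/
theorem exists_infl_fix [Finite W] [Finite Y] (J : Set I) {ψ : ↥(LJ cs h T X J) → ℂ} (hψ : IsIrrCharacter _ ψ)
    (hf : FixAll p₀ ψ) :
    ∃ ψ' : ↥(PJ cs h T X J) → ℂ, IsIrrCharacter _ ψ' ∧ FixAll p₀ ψ' ∧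
      (∀ (l : Y) (hl : l ∈ LJ cs h T X J), ψ' ⟨l, LJ_le_PJ hl⟩ = ψ ⟨l, hl⟩) ∧
      ∀ (v : Y) (hv : v ∈ VJ cs h X J), ψ' ⟨v, VJ_le_PJ hv⟩ = ψ' 1 := by
  obtain ⟨π, h1, h2⟩ := exists_projL R J
  have hs : Function.Surjective π := fun l => ⟨⟨(l : Y), LJ_le_PJ l.2⟩, h1 l l.2⟩
  refine ⟨ψ ∘ π, Core.isIrr_comp π hs hψ, FixAll.comp π hf, fun l hl => ?_, fun v hv => ?_⟩
  · rw [Function.comp_apply, h1]
  · rw [Function.comp_apply, h2 v hv, Function.comp_apply, map_one]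

/-- **Irreducible characters of a group with a root group datum from the cuspidal characters of `M_J`**, with fixed
vectors. -/
theorem exists_irr_MJ_fix [Finite W] [Fintype Y] (hG : GG cs h T X = ⊤) (J : Set I)
    {θ : ↥(MJ cs h X J) → ℂ} (hθ : IsIrrCharacter _ θ) (hfix : FixAll p₀ θ)
    (hc : ∀ i ∈ J, ∀ [Fintype (rad cs h X J i)], ∑ u : rad cs h X J i, θ ⟨u, rad_le_MJ J i u.2⟩ = 0)
    (hs : ∀ w g (hg : Rp cs R.nsys w g), w ∉ WJ cs J → ∀ hw : Perm cs h J w,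
      ∃ (m : Y) (hm : m ∈ MJ cs h X J), θ ⟨g⁻¹ * m * g, conj_mem_MJ R hg hw hm⟩ ≠ θ ⟨m, hm⟩) :
    ∃ χ : Y → ℂ, IsIrrCharacter Y χ ∧ FixAll p₀ χ ∧
      ∃ k : ℕ, 0 < k ∧ χ 1 = (PJ cs h T X J).index * (k * θ 1) := by
  classical
  obtain ⟨ψ, hψ, hψf, ⟨k, hk, hk1⟩, c, s, hres, hsφ⟩ :=
    exists_over_fix (MJ_le_LJ (T := T) J) (LJ_le_normalizer_MJ R J) hθ hfix
  obtain ⟨ψ', hψ', hψf', hψL, hψV⟩ := exists_infl_fix R J hψ hψf
  have hres' : ∀ (m : Y) (hm : m ∈ MJ cs h X J), ψ' ⟨m, LJ_le_PJ (MJ_le_LJ J hm)⟩ = c * ∑ φ ∈ s, φ ⟨m, hm⟩ := by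
    intro m hm
    rw [hψL]
    exact hres ⟨m, hm⟩
  -- the conjugates are conjugates under the torus
  have hsT : ∀ φ ∈ s, ∃ t, ∃ ht : t ∈ T, φ = θ ∘ conjME (MJ cs h X J) (T_le_normalizer_MJ R J ht) := by
    intro φ hφ
    obtain ⟨g, hg, hgφ⟩ := hsφ φ hφ
    obtain ⟨m, hm, t, ht, rfl⟩ := (mem_LJ_iff_mul' R J).1 hg
    refine ⟨t, ht, ?_⟩
    funext x
    obtain ⟨hx', e⟩ := hgφ x x.2
    rw [e, Function.comp_apply]
    have h1 := Core.isIrr_isClassFunction hθ (conjME (MJ cs h X J) (T_le_normalizer_MJ R J ht) x) ⟨m, hm⟩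
    rw [← h1]
    congr 1
    apply Subtype.ext
    simp only [conjME_coe, Subgroup.coe_mul, InvMemClass.coe_inv]
    group
  refine ⟨indFun (PJ cs h T X J) ψ', ?_, FixAll.indFun _ (Core.isIrr_isCharacter hψ') hψf', k, hk, ?_⟩
  · refine isIrr_indFun_rgd R hG J hψ' hψV ?_ ?_
    · intro i hi hf
      have h1 : ∀ u : rad cs h X J i, ψ' ⟨u, rad_le_PJ J i u.2⟩ = c * ∑ φ ∈ s, φ ⟨u, rad_le_MJ J i u.2⟩ :=
        fun u => hres' u (rad_le_MJ J i u.2)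
      rw [Finset.sum_congr rfl fun u _ => h1 u, ← Finset.mul_sum, Finset.sum_comm]
      rw [Finset.sum_eq_zero, mul_zero]
      intro φ hφ
      obtain ⟨t, ht, rfl⟩ := hsT φ hφ
      rw [← hc i hi]
      exact Fintype.sum_equiv (conjME (rad cs h X J i) (T_le_normalizer_rad R J i ht)).toEquiv _ _ fun u => rfl
    · intro w g hg hw hp
      have hgn := inv_mem (rp_mem_normalizer_MJ R hg hp)
      refine ⟨MJ cs h X J, le_trans (MJ_le_LJ J) LJ_le_PJ,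
        fun l hl => LJ_le_PJ (MJ_le_LJ J (conj_mem_MJ R hg hp hl)), ?_⟩
      intro hf
      have h1 : ∀ l : MJ cs h X J, ψ' ⟨l, LJ_le_PJ (MJ_le_LJ J l.2)⟩ *
          conj (ψ' ⟨g⁻¹ * l * g, LJ_le_PJ (MJ_le_LJ J (conj_mem_MJ R hg hp l.2))⟩) =
          ∑ φ ∈ s, ∑ φ' ∈ s, (c * conj c) * (φ l * conj ((φ' ∘ conjME (MJ cs h X J) hgn) l)) := by
        intro l
        have e2 : (⟨g⁻¹ * l * g, conj_mem_MJ R hg hp l.2⟩ : MJ cs h X J) = conjME (MJ cs h X J) hgn l := by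
          apply Subtype.ext
          rw [conjME_coe, inv_inv]
        rw [hres' l l.2, hres' _ (conj_mem_MJ R hg hp l.2), e2, map_mul, map_sum]
        simp only [← Finset.mul_sum, Function.comp_apply]
        rw [← Finset.sum_mul]
        ring
      rw [Finset.sum_congr rfl fun l _ => h1 l, Finset.sum_comm]
      refine Finset.sum_eq_zero fun φ hφ => ?_
      rw [Finset.sum_comm]
      refine Finset.sum_eq_zero fun φ' hφ' => ?_
      rw [← Finset.mul_sum]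
      obtain ⟨t, ht, rfl⟩ := hsT φ hφ
      obtain ⟨t', ht', rfl⟩ := hsT φ' hφ'
      have hne : θ ∘ conjME (MJ cs h X J) (T_le_normalizer_MJ R J ht) ≠
          (θ ∘ conjME (MJ cs h X J) (T_le_normalizer_MJ R J ht')) ∘ conjME (MJ cs h X J) hgn := by
        intro he
        have hg' : Rp cs R.nsys w (t * g * t'⁻¹) := by
          have h2 := ((rp_of_mem (cs := cs) (hN := R.nsys) ht).mul hg).mul
            (rp_of_mem (cs := cs) (hN := R.nsys) (inv_mem ht'))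
          rwa [one_mul, mul_one] at h2
        obtain ⟨m, hm, hne⟩ := hs w _ hg' hw hp
        apply hne
        have h3 := congrFun he (conjME (MJ cs h X J) (inv_mem (T_le_normalizer_MJ R J ht)) ⟨m, hm⟩)
        simp only [Function.comp_apply] at h3
        refine Eq.trans ?_ (h3.symm.trans ?_)
        · congr 1
          apply Subtype.ext
          simp only [conjME_coe]
          group
        · congr 1
          apply Subtype.ext
          simp only [conjME_coe]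
          group
      have hi1 : IsIrrCharacter _ (θ ∘ conjME (MJ cs h X J) (T_le_normalizer_MJ R J ht)) :=
        Core.isIrr_comp (conjME _ (T_le_normalizer_MJ R J ht)).toMonoidHom (MulEquiv.surjective _) hθ
      have hi2 : IsIrrCharacter _ (θ ∘ conjME (MJ cs h X J) (T_le_normalizer_MJ R J ht')) :=
        Core.isIrr_comp (conjME _ (T_le_normalizer_MJ R J ht')).toMonoidHom (MulEquiv.surjective _) hθ
      have hi3 : IsIrrCharacter _ ((θ ∘ conjME (MJ cs h X J) (T_le_normalizer_MJ R J ht')) ∘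
          conjME (MJ cs h X J) hgn) :=
        Core.isIrr_comp (conjME _ hgn).toMonoidHom (MulEquiv.surjective _) hi2
      have h4 := Core.classInner_irr_ne hi1 hi3 hne
      rw [Core.classInner_def, mul_eq_zero] at h4
      rcases h4 with h4 | h4
      · exact absurd (inv_eq_zero.1 h4) Core.card_ne_zero_complex
      · rw [mul_eq_zero]
        exact Or.inr h4
  · rw [indFun_one]
    congr 1
    rw [← hk1]
    exact hψL 1 (one_mem _)

/-- **The product of cuspidal characters**, with fixed vectors. -/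
theorem exists_prod_fix [Finite W] [Finite Y] {K K' : Set I} (ho : Orth A K K') {θ : ↥(MJ cs h X K) → ℂ}
    {θ' : ↥(MJ cs h X K') → ℂ} (hθ : Cusp cs h X K θ) (hf : FixAll p₀ θ) (hθ' : Cusp cs h X K' θ')
    (hf' : FixAll p₀ θ') :
    ∃ ψ : ↥(MJ cs h X (K ∪ K')) → ℂ, Cusp cs h X (K ∪ K') ψ ∧ FixAll p₀ ψ ∧
      ∀ (a : Y) (ha : a ∈ MJ cs h X K) (b : Y) (hb : b ∈ MJ cs h X K'),
        ∃ hab : a * b ∈ MJ cs h X (K ∪ K'), ψ ⟨a * b, hab⟩ = θ ⟨a, ha⟩ * θ' ⟨b, hb⟩ := by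
  obtain ⟨ψ, hψ, hval⟩ := hθ.exists_prod R ho hθ'
  exact ⟨ψ, hψ, fixAll_of_prod (ho.comm R) ho.MJ_union (Core.isIrr_isCharacter hθ.irr)
    (Core.isIrr_isCharacter hθ'.irr) hf hf' (Core.isIrr_isCharacter hψ.irr) hval, hval⟩

/-- **One component of type `A_2`**, with fixed vectors. -/
theorem exists_irr_one_fix [Finite W] [Fintype Y] (hG : GG cs h T X = ⊤) {J K K' : Set I} {j : I}
    (hJ : ∀ i, i ∈ J ↔ i ≠ j) (hJK : J = K ∪ K') (ho : Orth A K K') {k₀ k₁ : I} (hK : K = {k₀, k₁})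
    (hk : IsoPair A J k₀ k₁) (hk1 : A k₁ j = 0) (h3 : ¬ (3 : ℤ) ∣ A k₀ j)
    (hun : ∀ a b, IsoPair A J a b → (a = k₀ ∧ b = k₁) ∨ (a = k₁ ∧ b = k₀))
    {θ : ↥(MJ cs h X K) → ℂ} (hθ : Cusp cs h X K θ) (hf : FixAll p₀ θ) (hns : NonSwap cs h X K k₀ k₁ θ)
    {θ' : ↥(MJ cs h X K') → ℂ} (hθ' : Cusp cs h X K' θ') (hf' : FixAll p₀ θ') :
    ∃ χ : Y → ℂ, IsIrrCharacter Y χ ∧ FixAll p₀ χ ∧
      ∃ k : ℕ, 0 < k ∧ χ 1 = (PJ cs h T X J).index * (k * (θ 1 * θ' 1)) := by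
  subst hJK
  obtain ⟨ψ, hψ, hψf, hval⟩ := exists_prod_fix R ho hθ hf hθ' hf'
  have hval1 : ψ 1 = θ 1 * θ' 1 := by
    obtain ⟨hab, e⟩ := hval 1 (one_mem _) 1 (one_mem _)
    simp only [mul_one] at e
    exact e
  rw [← hval1]
  refine exists_irr_MJ_fix R hG (K ∪ K') hψ.irr hψf hψ.van ?_
  intro w g hg hw hp
  obtain ⟨h0, h1⟩ := swap_of_iso hJ hk hk1 h3 hun hp hw
  exact not_stable_swap R rfl ho hK hns hθ'.irr hval hg hp h0 h1

/-- **Two components of type `A_2`**, with fixed vectors. -/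
theorem exists_irr_two_fix [Finite W] [Fintype Y] (hG : GG cs h T X = ⊤) {J K L N : Set I} {j : I}
    (hJ : ∀ i, i ∈ J ↔ i ≠ j) (hJK : J = K ∪ (L ∪ N)) (hoK : Orth A K (L ∪ N)) (hoL : Orth A L N) {k₀ k₁ l₀ l₁ : I}
    (hK : K = {k₀, k₁}) (hL : L = {l₀, l₁}) (hk : IsoPair A J k₀ k₁) (hl : IsoPair A J l₀ l₁)
    (hk1 : A k₁ j = 0) (hl1 : A l₁ j = 0) (h3 : ¬ (3 : ℤ) ∣ A k₀ j) (hkl : A l₀ j = A k₀ j)
    (hun : ∀ a b, IsoPair A J a b → (a = k₀ ∧ b = k₁) ∨ (a = k₁ ∧ b = k₀) ∨ (a = l₀ ∧ b = l₁) ∨ (a = l₁ ∧ b = l₀))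
    {θ : ↥(MJ cs h X K) → ℂ} (hθ : Cusp cs h X K θ) (hf : FixAll p₀ θ) (hns : NonSwap cs h X K k₀ k₁ θ)
    {α α' : ↥(MJ cs h X L) → ℂ} (hα : Cusp cs h X L α) (hα' : Cusp cs h X L α') (hfα : FixAll p₀ α)
    (hfα' : FixAll p₀ α')
    (hne : ∀ t (ht : t ∈ T), α' ≠ α ∘ conjME (MJ cs h X L) (T_le_normalizer_MJ R L ht))
    {β : ↥(MJ cs h X N) → ℂ} (hβ : Cusp cs h X N β) (hfβ : FixAll p₀ β) :
    ∃ χ : Y → ℂ, IsIrrCharacter Y χ ∧ FixAll p₀ χ ∧
      ∃ k : ℕ, 0 < k ∧ χ 1 = (PJ cs h T X J).index * (k * θ 1) := by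
  classical
  subst hJK
  -- the set of pairs to be avoided
  let Bad : (↥(MJ cs h X L) → ℂ) → Prop := fun γ => ∃ (w : W) (g : Y) (_ : Rp cs R.nsys w g)
    (_ : Perm cs h (K ∪ (L ∪ N)) w) (_ : w ∉ WJ cs (K ∪ (L ∪ N))) (hm : ∀ m ∈ MJ cs h X L, g⁻¹ * m * g ∈ MJ cs h X K)
    (c : ℂ), ∀ m : MJ cs h X L, γ m = c * θ ⟨g⁻¹ * m * g, hm m m.2⟩
  obtain ⟨γ, hγ, hγf, hbad⟩ : ∃ γ : ↥(MJ cs h X L) → ℂ, Cusp cs h X L γ ∧ FixAll p₀ γ ∧ ¬ Bad γ := by
    by_contra hcon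
    push Not at hcon
    obtain ⟨w, g, hg, hw, hwJ, hm, c, e⟩ := hcon α hα hfα
    obtain ⟨w', g', hg', hw', hwJ', hm', c', e'⟩ := hcon α' hα' hfα'
    have ht := fix_of_two R hJ hw hwJ hw' hwJ' hg hg'
    refine hne _ ht ?_
    have hc0 : c ≠ 0 := by
      rintro rfl
      apply Core.isIrr_ne_zero hα.irr
      funext m
      rw [e, zero_mul]; rfl
    refine eq_of_smul (c := c' * c⁻¹) hα'.irr
      (Core.isIrr_comp (conjME _ (T_le_normalizer_MJ R L ht)).toMonoidHom (MulEquiv.surjective _) hα.irr) fun m => ?_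
    change α' m = c' * c⁻¹ * α (conjME _ (T_le_normalizer_MJ R L ht) m)
    rw [e', e]
    have e1 : (⟨g⁻¹ * (conjME (MJ cs h X L) (T_le_normalizer_MJ R L ht) m : Y) * g,
        hm _ (conjME (MJ cs h X L) (T_le_normalizer_MJ R L ht) m).2⟩ : MJ cs h X K) = ⟨g'⁻¹ * m * g', hm' m m.2⟩ := by
      apply Subtype.ext
      simp only [conjME_coe]
      group
    rw [e1]
    field_simp
  obtain ⟨δ, hδ, hδf, hδval⟩ := exists_prod_fix R hoL hγ hγf hβ hfβ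
  obtain ⟨ψ, hψ, hψf, hval⟩ := exists_prod_fix R hoK hθ hf hδ hδf
  have hval1 : ψ 1 = θ 1 * δ 1 := by
    obtain ⟨hab, e⟩ := hval 1 (one_mem _) 1 (one_mem _)
    simp only [mul_one] at e
    exact e
  obtain ⟨χ, hχ, hχf, k, hk0, hχ1⟩ := exists_irr_MJ_fix R hG (K ∪ (L ∪ N)) hψ.irr hψf hψ.van (by
    intro w g hg hw hp
    rcases swap_or hJ hk hl hk1 hl1 h3 hkl hun hp hw with ⟨h0, h1⟩ | ⟨h0, h1⟩
    · exact not_stable_swap R rfl hoK hK hns hδ.irr hval hg hp h0 h1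
    · by_contra hcon
      push Not at hcon
      apply hbad
      have hm : ∀ m ∈ MJ cs h X L, g⁻¹ * m * g ∈ MJ cs h X K := by
        intro m hm
        refine conj_mem_Sup' R hg (S := RootsJ cs h L) (S' := RootsJ cs h K) (fun x hx => hx.1) ?_ hm
        intro x hx
        refine ⟨hx.1.act _, fun k hkK => ?_⟩
        rw [eq_sum_sr x, map_sum, Finset.sum_apply]
        refine Finset.sum_eq_zero fun i _ => ?_
        rw [map_smul, Pi.smul_apply]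
        by_cases hi : i ∈ L
        · rw [hL] at hi
          have hk' : k ≠ k₀ ∧ k ≠ k₁ := by
            constructor <;> rintro rfl <;> exact hkK (by rw [hK]; simp)
          rcases hi with rfl | rfl
          · rw [← h1, rep_inv_apply, sr_ne hk'.2, smul_zero]
          · rw [← h0, rep_inv_apply, sr_ne hk'.1, smul_zero]
        · rw [hx.2 i hi, zero_smul]
      have hKle : MJ cs h X K ≤ MJ cs h X (K ∪ (L ∪ N)) := by
        rw [hoK.MJ_union]; exact le_sup_left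
      have hLNle : MJ cs h X (L ∪ N) ≤ MJ cs h X (K ∪ (L ∪ N)) := by
        rw [hoK.MJ_union]; exact le_sup_right
      have hLle : MJ cs h X L ≤ MJ cs h X (L ∪ N) := by
        rw [hoL.MJ_union]; exact le_sup_left
      refine ⟨w, g, hg, hp, hw, hm, δ 1 / (θ 1 * β 1), fun m => ?_⟩
      have h2 := hcon m (hLNle (hLle m.2))
      obtain ⟨hab1, e1⟩ := hval (g⁻¹ * m * g) (hm m m.2) 1 (one_mem _)
      obtain ⟨hab2, e2⟩ := hval 1 (one_mem _) m (hLle m.2)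
      obtain ⟨hab3, e3⟩ := hδval m m.2 1 (one_mem _)
      simp only [mul_one] at e1
      simp only [one_mul] at e2
      simp only [mul_one] at e3
      have e4 : θ ⟨g⁻¹ * m * g, hm m m.2⟩ * δ 1 = θ 1 * (γ m * β 1) :=
        (e1.symm.trans h2).trans (e2.trans (congrArg (θ 1 * ·) e3))
      have hθ1 := Core.isIrr_apply_one_ne_zero hθ.irr
      have hβ1 := Core.isIrr_apply_one_ne_zero hβ.irr
      field_simp
      rw [mul_comm (δ 1), e4]
      ring)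
  obtain ⟨d, hd0, hd⟩ := Core.isIrr_apply_one hδ.irr
  refine ⟨χ, hχ, hχf, k * d, Nat.mul_pos hk0 hd0, ?_⟩
  rw [hχ1, hval1, hd]
  push_cast
  ring

omit R in
/-- the degree is divisible by `p₀` -/
theorem imc_of_deg [Finite Y] {χ : Y → ℂ} (hχ : IsIrrCharacter Y χ) (hf : FixAll p₀ χ) {N : ℕ} (hN : χ 1 = N)
    (hd : p₀ ∣ N) : IMC p₀ Y := by
  refine FixAll.imc ⟨χ, hχ⟩ hf ?_
  change p₀ ∣ charDegree χ
  rw [H670.PSing.charDegree_eq_of hN]
  exact hd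

/-- **`IMC` from a cuspidal character of `M_J`.** -/
theorem imc_of_MJ [Finite W] [Finite Y] (hG : GG cs h T X = ⊤) (J : Set I)
    {θ : ↥(MJ cs h X J) → ℂ} (hθ : IsIrrCharacter _ θ) (hfix : FixAll p₀ θ)
    (hc : ∀ i ∈ J, ∀ [Fintype (rad cs h X J i)], ∑ u : rad cs h X J i, θ ⟨u, rad_le_MJ J i u.2⟩ = 0)
    (hs : ∀ w g (hg : Rp cs R.nsys w g), w ∉ WJ cs J → ∀ hw : Perm cs h J w,
      ∃ (m : Y) (hm : m ∈ MJ cs h X J), θ ⟨g⁻¹ * m * g, conj_mem_MJ R hg hw hm⟩ ≠ θ ⟨m, hm⟩)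
    (hd : p₀ ∣ (PJ cs h T X J).index ∨ ∃ d : ℕ, θ 1 = d ∧ p₀ ∣ d) : IMC p₀ Y := by
  have := Fintype.ofFinite Y
  obtain ⟨χ, hχ, hχf, k, -, hχ1⟩ := exists_irr_MJ_fix R hG J hθ hfix hc hs
  rcases hd with hd | ⟨d, hd1, hd⟩
  · obtain ⟨d, -, hd1⟩ := Core.isIrr_apply_one hθ
    refine imc_of_deg hχ hχf (N := (PJ cs h T X J).index * (k * d)) ?_ (Dvd.dvd.mul_right hd _)
    rw [hχ1, hd1]; push_cast; ring
  · refine imc_of_deg hχ hχf (N := (PJ cs h T X J).index * (k * d)) ?_ (Dvd.dvd.mul_left (Dvd.dvd.mul_left hd _) _)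
    rw [hχ1, hd1]; push_cast; ring

/-- **One component of type `A_2`**, with explicit characters. -/
theorem imc_of_one_ex [Finite W] [Finite Y] (hG : GG cs h T X = ⊤) {J K K' : Set I} {j : I}
    (hJ : ∀ i, i ∈ J ↔ i ≠ j) (hJK : J = K ∪ K') (ho : Orth A K K') {k₀ k₁ : I} (hK : K = {k₀, k₁})
    (hk : IsoPair A J k₀ k₁) (hk1 : A k₁ j = 0) (h3 : ¬ (3 : ℤ) ∣ A k₀ j)
    (hun : ∀ a b, IsoPair A J a b → (a = k₀ ∧ b = k₁) ∨ (a = k₁ ∧ b = k₀))
    {θ : ↥(MJ cs h X K) → ℂ} (hθ : Cusp cs h X K θ) (hns : NonSwap cs h X K k₀ k₁ θ) (hf : FixAll p₀ θ)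
    {θ' : ↥(MJ cs h X K') → ℂ} (hθ' : Cusp cs h X K' θ') (hf' : FixAll p₀ θ')
    (hd : p₀ ∣ (PJ cs h T X J).index ∨ (∃ d : ℕ, θ 1 = d ∧ p₀ ∣ d) ∨ ∃ d : ℕ, θ' 1 = d ∧ p₀ ∣ d) : IMC p₀ Y := by
  have := Fintype.ofFinite Y
  obtain ⟨χ, hχ, hχf, k, -, hχ1⟩ := exists_irr_one_fix R hG hJ hJK ho hK hk hk1 h3 hun hθ hf hns hθ' hf'
  obtain ⟨d, -, hd1⟩ := Core.isIrr_apply_one hθ.irr
  obtain ⟨e, -, he1⟩ := Core.isIrr_apply_one hθ'.irr
  refine imc_of_deg hχ hχf (N := (PJ cs h T X J).index * (k * (d * e))) ?_ ?_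
  · rw [hχ1, hd1, he1]; push_cast; ring
  · rcases hd with hd | ⟨d', h1, hd⟩ | ⟨e', h1, hd⟩
    · exact Dvd.dvd.mul_right hd _
    · have e1 : d' = d := by
        rw [hd1] at h1
        exact_mod_cast h1.symm
      rw [e1] at hd
      exact Dvd.dvd.mul_left (Dvd.dvd.mul_left (Dvd.dvd.mul_right hd _) _) _
    · have e1 : e' = e := by
        rw [he1] at h1
        exact_mod_cast h1.symm
      rw [e1] at hd
      exact Dvd.dvd.mul_left (Dvd.dvd.mul_left (Dvd.dvd.mul_left hd _) _) _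

end rgd

section inputs

open CoxeterSystem Cfsg.Agent.ChevalleyStructure.CoxeterGeom Cfsg.Agent.Tits.Roots Cfsg.Agent.Tits.Core
  Cfsg.Agent.Tits.Exchange Cfsg.Agent.Nodes.Reps Cfsg.Agent.Nodes.BNOf Cfsg.Agent.Nodes.StabComb
  Cfsg.Agent.Nodes.Bruhat Cfsg.Agent.Nodes.OppDec Cfsg.Agent.Nodes.LeviDec Cfsg.Agent.H35.ExcIdx

variable {I : Type*} {W : Type*} {Y : Type u} [Fintype I] [DecidableEq I] [Group W] [Group Y] {M : CoxeterMatrix I}

/-- the input for a component, with fixed vectors -/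
def InF (p₀ : ℕ) (cs : CoxeterSystem M W) {A : I → I → ℤ} (h : IsCartan M A) (X : (I → ℤ) → Subgroup Y) (K : Set I) :
    Prop :=
  ∃ θ : ↥(MJ cs h X K) → ℂ, Cusp cs h X K θ ∧ FixAll p₀ θ

/-- the input for a component of type `A_2`, with fixed vectors -/
def InA2F (p₀ : ℕ) (cs : CoxeterSystem M W) {A : I → I → ℤ} (h : IsCartan M A) (X : (I → ℤ) → Subgroup Y) (q : ℕ)
    (k₀ k₁ : I) : Prop :=
  ∃ θ : ↥(MJ cs h X {k₀, k₁}) → ℂ, Cusp cs h X {k₀, k₁} θ ∧ NonSwap cs h X {k₀, k₁} k₀ k₁ θ ∧ FixAll p₀ θ ∧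
    ∃ d t : ℕ, θ 1 = d ∧ d * t = (q - 1) * (q ^ 2 - 1) ∧ t ∣ 3

variable {cs : CoxeterSystem M W} {A : I → I → ℤ} {h : IsCartan M A} {p : ℕ} {T : Subgroup Y} {n : I → Y}
  {X : (I → ℤ) → Subgroup Y} {p₀ : ℕ}

theorem InA2F.inF {q : ℕ} {k₀ k₁ : I} (hK : InA2F p₀ cs h X q k₀ k₁) : InF p₀ cs h X {k₀, k₁} := by
  obtain ⟨θ, h1, -, h2, -⟩ := hK
  exact ⟨θ, h1, h2⟩

variable [hp₀ : Fact p₀.Prime]

theorem InF.union [Finite W] [Finite Y] (R : RGD cs h p T n X) {K K' : Set I} (hK : InF p₀ cs h X K)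
    (hK' : InF p₀ cs h X K') (ho : Orth A K K') : InF p₀ cs h X (K ∪ K') := by
  obtain ⟨θ, hθ, hf⟩ := hK
  obtain ⟨θ', hθ', hf'⟩ := hK'
  obtain ⟨ψ, hψ, hψf, -⟩ := exists_prod_fix R ho hθ hf hθ' hf'
  exact ⟨ψ, hψ, hψf⟩

/-- **No element outside `W_J` permutes the simple roots of `J`.** -/
theorem imc_of_none [Finite W] [Finite Y] (R : RGD cs h p T n X) (hG : GG cs h T X = ⊤) {J : Set I}
    (hJ : InF p₀ cs h X J) (hno : ∀ w, Perm cs h J w → w ∈ WJ cs J) (hd : p₀ ∣ (PJ cs h T X J).index) :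
    IMC p₀ Y := by
  obtain ⟨θ, hθ, hf⟩ := hJ
  exact imc_of_MJ R hG J hθ.irr hf hθ.van (fun w g hg hw hp => absurd (hno w hp) hw) (Or.inl hd)

/-- **One component of type `A_2`.** -/
theorem imc_of_one [Finite W] [Finite Y] {q : ℕ} (hq : 2 ≤ q) {j k₀ k₁ : I} {K' : Set I}
    (R : RGD cs h p T n X) (hG : GG cs h T X = ⊤) (hJ : ({i | i ≠ j} : Set I) = {k₀, k₁} ∪ K')
    (ho : ∀ i ∈ ({k₀, k₁} : Set I), ∀ i' ∈ K', M i i' = 2) (hk : M k₀ k₁ = 3) (hk1 : M k₁ j = 2)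
    (hk0 : M k₀ j = 3 ∨ M k₀ j = 4)
    (hun : ∀ a b, a ≠ j → b ≠ j → M a b = 3 → (∀ c, c ≠ j → c ≠ a → c ≠ b → M a c = 2 ∧ M b c = 2) →
      (a = k₀ ∧ b = k₁) ∨ (a = k₁ ∧ b = k₀))
    (hA2 : InA2F p₀ cs h X q k₀ k₁) (hK' : InF p₀ cs h X K')
    (hd : p₀ ∣ q - 1 ∨ p₀ ∣ (PJ cs h T X {i | i ≠ j}).index) : IMC p₀ Y := by
  classical
  have : Fintype Y := Fintype.ofFinite Y
  obtain ⟨θ, hθ, hns, hf, d, t, hd1, hdt, ht⟩ := hA2
  obtain ⟨θ', hθ', hf'⟩ := hK'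
  have hmem : ∀ i, i ∈ ({i | i ≠ j} : Set I) ↔ i ≠ j := fun i => Iff.rfl
  have hk0J : k₀ ∈ ({i | i ≠ j} : Set I) := by rw [hJ]; simp
  have hk1J : k₁ ∈ ({i | i ≠ j} : Set I) := by rw [hJ]; simp
  obtain ⟨χ, hχ, hχf, k, hk0', hχ1⟩ := exists_irr_one_fix R hG hmem hJ (orth_of h ho) rfl
    (isoPair_of h hk0J hk1J hk fun c hc hc0 hc1 => by
      rw [hJ] at hc
      rcases hc with hc | hc
      · rcases hc with rfl | rfl
        · exact absurd rfl hc0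
        · exact absurd rfl hc1
      · exact ⟨ho _ (by simp) c hc, ho _ (by simp) c hc⟩)
    (cartan_two h hk1).1 (not_three_dvd h hk0)
    (fun a b hab => by
      obtain ⟨h1, h2, h3, h4⟩ := of_isoPair h hab
      exact hun a b h1 h2 h3 h4)
    hθ hf hns hθ' hf'
  obtain ⟨e, -, he⟩ := Cfsg.Agent.Characters.Core.isIrr_apply_one hθ'.irr
  refine imc_of_deg hχ hχf (N := (PJ cs h T X {i | i ≠ j}).index * (k * (d * e))) ?_ ?_
  · rw [hχ1, hd1, he]; push_cast; ring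
  · rcases hd with h3 | h3
    · have h4 := dvd_of_mul_eq hp₀.out hq h3 ht hdt
      exact Dvd.dvd.mul_left (Dvd.dvd.mul_left (Dvd.dvd.mul_right h4 _) _) _
    · exact Dvd.dvd.mul_right h3 _

/-- **Two components of type `A_2`.** -/
theorem imc_of_two [Finite W] [Finite Y] {q : ℕ} (hq : 2 ≤ q) {j k₀ k₁ l₀ l₁ : I} {N : Set I}
    (R : RGD cs h p T n X) (hG : GG cs h T X = ⊤) (hJ : ({i | i ≠ j} : Set I) = {k₀, k₁} ∪ ({l₀, l₁} ∪ N))
    (hoK : ∀ i ∈ ({k₀, k₁} : Set I), ∀ i' ∈ ({l₀, l₁} ∪ N : Set I), M i i' = 2)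
    (hoL : ∀ i ∈ ({l₀, l₁} : Set I), ∀ i' ∈ N, M i i' = 2)
    (hk : M k₀ k₁ = 3) (hk1 : M k₁ j = 2) (hk0 : M k₀ j = 3) (hl : M l₀ l₁ = 3) (hl1 : M l₁ j = 2) (hl0 : M l₀ j = 3)
    (hun : ∀ a b, a ≠ j → b ≠ j → M a b = 3 → (∀ c, c ≠ j → c ≠ a → c ≠ b → M a c = 2 ∧ M b c = 2) →
      (a = k₀ ∧ b = k₁) ∨ (a = k₁ ∧ b = k₀) ∨ (a = l₀ ∧ b = l₁) ∨ (a = l₁ ∧ b = l₀))
    (hA2 : InA2F p₀ cs h X q k₀ k₁)
    (hL : ∃ α α' : ↥(MJ cs h X {l₀, l₁}) → ℂ, Cusp cs h X {l₀, l₁} α ∧ Cusp cs h X {l₀, l₁} α' ∧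
      FixAll p₀ α ∧ FixAll p₀ α' ∧
      ∀ t (ht : t ∈ T), α' ≠ α ∘ conjME (MJ cs h X {l₀, l₁}) (T_le_normalizer_MJ R {l₀, l₁} ht))
    (hN : InF p₀ cs h X N) (hd : p₀ ∣ q - 1 ∨ p₀ ∣ (PJ cs h T X {i | i ≠ j}).index) : IMC p₀ Y := by
  classical
  have : Fintype Y := Fintype.ofFinite Y
  obtain ⟨θ, hθ, hns, hf, d, t, hd1, hdt, ht⟩ := hA2
  obtain ⟨α, α', hα, hα', hfα, hfα', hne⟩ := hL
  obtain ⟨β, hβ, hfβ⟩ := hN
  have hmem : ∀ i, i ∈ ({i | i ≠ j} : Set I) ↔ i ≠ j := fun i => Iff.rfl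
  have hk0J : k₀ ∈ ({i | i ≠ j} : Set I) := by rw [hJ]; simp
  have hk1J : k₁ ∈ ({i | i ≠ j} : Set I) := by rw [hJ]; simp
  have hl0J : l₀ ∈ ({i | i ≠ j} : Set I) := by rw [hJ]; simp
  have hl1J : l₁ ∈ ({i | i ≠ j} : Set I) := by rw [hJ]; simp
  obtain ⟨χ, hχ, hχf, k, hk0', hχ1⟩ := exists_irr_two_fix R hG hmem hJ (orth_of h hoK) (orth_of h hoL) rfl rfl
    (isoPair_of h hk0J hk1J hk fun c hc hc0 hc1 => by
      rw [hJ] at hc
      rcases hc with hc | hc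
      · rcases hc with rfl | rfl
        · exact absurd rfl hc0
        · exact absurd rfl hc1
      · exact ⟨hoK _ (by simp) c hc, hoK _ (by simp) c hc⟩)
    (isoPair_of h hl0J hl1J hl fun c hc hc0 hc1 => by
      rw [hJ] at hc
      rcases hc with hc | hc | hc
      · have e1 := hoK c hc l₀ (by simp)
        have e2 := hoK c hc l₁ (by simp)
        rw [M.symmetric] at e1 e2
        exact ⟨e1, e2⟩
      · rcases hc with rfl | rfl
        · exact absurd rfl hc0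
        · exact absurd rfl hc1
      · exact ⟨hoL _ (by simp) c hc, hoL _ (by simp) c hc⟩)
    (cartan_two h hk1).1 (cartan_two h hl1).1 (not_three_dvd h (Or.inl hk0))
    ((cartan_three h hl0).1.trans (cartan_three h hk0).1.symm)
    (fun a b hab => by
      obtain ⟨h1, h2, h3, h4⟩ := of_isoPair h hab
      exact hun a b h1 h2 h3 h4)
    hθ hf hns hα hα' hfα hfα' hne hβ hfβ
  refine imc_of_deg hχ hχf (N := (PJ cs h T X {i | i ≠ j}).index * (k * d)) ?_ ?_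
  · rw [hχ1, hd1]; push_cast; ring
  · rcases hd with h3 | h3
    · have h4 := dvd_of_mul_eq hp₀.out hq h3 ht hdt
      exact Dvd.dvd.mul_left (Dvd.dvd.mul_left h4 _) _
    · exact Dvd.dvd.mul_right h3 _

end inputs

end Cfsg.Agent.H353.IMC
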