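import Cfsg.Agent.H353.IMC.Rows
import Cfsg.Agent.H661.SC.Roots
import Cfsg.Agent.H661.SC.NonPrin
import Cfsg.Agent.H928.Imc.In

/-!
# `E₆(q)` and `E₇(q)`: a constituent of `1_P^G` of degree divisible by `p` (S4526, helper353)

`imc_e6`, `imc_e7`.
-/

set_option autoImplicit false

open Cfsg

namespace Cfsg.Agent.H353.IMC

open Cfsg.Agent.H53.HC Cfsg.Agent.H53.HC.ExcRows Cfsg.Agent.H53.HC.ExcIM Cfsg.Agent.H661.SC Cfsg.Agent.H625.SylConst
  Cfsg.Agent.H35.ExcIdx Cfsg.Agent.H928.Imc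
open CoxeterSystem Cfsg.Agent.ChevalleyStructure.CoxeterGeom Cfsg.Agent.Tits.Roots Cfsg.Agent.Tits.Core
  Cfsg.Agent.Tits.Exchange Cfsg.Agent.Nodes.Reps Cfsg.Agent.Nodes.BNOf Cfsg.Agent.Nodes.StabComb

universe u

/-- the chain `0, 2, 3, 1` of `E₇` -/
def k74 : Fin 4 ↪ Fin 7 := ⟨![0, 2, 3, 1], by decide⟩
/-- the chain `1, 3, 4, 5` of `E₆` -/
def k64 : Fin 4 ↪ Fin 6 := ⟨![1, 3, 4, 5], by decide⟩

theorem range_k74 : Set.range k74 = {0, 2, 3, 1} := by
  ext x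
  simp only [Set.mem_range, Set.mem_insert_iff, Set.mem_singleton_iff]
  revert x; decide

theorem range_k64 : Set.range k64 = {1, 3, 4, 5} := by
  ext x
  simp only [Set.mem_range, Set.mem_insert_iff, Set.mem_singleton_iff]
  revert x; decide

theorem hk74 : ∀ i j, m7 (k74 i) (k74 j) = mA 4 i j := by decide +kernel
theorem hk64 : ∀ i j, m6 (k64 i) (k64 j) = mA 4 i j := by decide +kernel

/-- the degree of the cuspidal characters of `SL_5(q)`, `p ∣ q - 1` -/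
theorem dvd_deg_five {p q e t : ℕ} (hp : p.Prime) (h : e * t = ∏ i ∈ Finset.range 4, (q ^ (i + 1) - 1))
    (ht : t ∣ Nat.gcd (4 + 1) (q - 1)) (h1 : p ∣ q - 1) : p ∣ e := by
  by_contra he
  have h2 : p ∣ q ^ 2 - 1 := h1.trans (by
    have := Nat.sub_dvd_pow_sub_pow q 1 2
    rwa [one_pow] at this)
  have h3 : p ^ 2 ∣ e * t := by
    rw [h, Finset.prod_range_succ, Finset.prod_range_succ, Finset.prod_range_succ, Finset.prod_range_succ,
      Finset.prod_range_zero, one_mul, pow_two]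
    refine Dvd.dvd.mul_right (Dvd.dvd.mul_right (mul_dvd_mul ?_ h2) _) _
    rwa [zero_add, pow_one]
  have h4 : p ^ 2 ∣ t :=
    (Nat.Coprime.pow_left 2 ((Nat.Prime.coprime_iff_not_dvd hp).2 he)).dvd_of_dvd_mul_left h3
  have h5 : p ^ 2 ∣ 5 := (h4.trans ht).trans (Nat.gcd_dvd_left _ _)
  have h6 : p ∣ 5 := (dvd_pow_self p (by norm_num)).trans h5
  have h7 : p = 5 := (Nat.prime_dvd_prime_iff_eq hp (by norm_num)).1 h6
  subst h7
  norm_num at h5

/-- **`E₇(q)`**. -/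
theorem imc_e7 {S : Type u} [Group S] [Finite S] (h : Lie.IsoE7 S) (hs : IsSimpleGroup S) {p : ℕ}
    [hp : Fact p.Prime] (hd : p ∣ Nat.card S) : IMC p S := by
  obtain ⟨F, _, _, ⟨e⟩⟩ := h
  obtain ⟨r, f, hr, hf, hF, hch⟩ := exists_prime_pow F
  by_cases hpr : p = r
  · subst hpr
    exact imc_char (Or.inr (Or.inr (Or.inr (Or.inr (Or.inr (Or.inr (Or.inl
      ⟨F, inferInstance, inferInstance, hch, Or.inr (Or.inr (Or.inr (Or.inl ⟨e⟩)))⟩))))))) hd
  refine IMC.of_equiv e ?_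
  have hd' : p ∣ Nat.card ↥(Lie.chevE7.group F) := by rwa [← Nat.card_congr e.toEquiv]
  have : Fact r.Prime := ⟨hr⟩
  have hFc : Nat.card F = r ^ f := by rw [Nat.card_eq_fintype_card, hF]
  by_cases h3 : p ∣ (r ^ f) ^ 3 - 1 ∧ ¬ p ∣ r ^ f - 1
  · exact root_E7 F r hpr (by rw [hFc]; exact h3.2) (by rw [hFc]; exact h3.1)
  · have hc : ¬ p ∣ (r ^ f) ^ 3 - 1 ∨ p ∣ r ^ f - 1 := by
      by_cases h4 : p ∣ r ^ f - 1
      · exact Or.inr h4
      · exact Or.inl fun h5 => h3 ⟨h5, h4⟩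
    have := finite_group (K := F) Lie.chevE7
    have D := data_E7_3 hr hf hF
    have := D.fin
    have hpq : ¬ p ∣ r ^ f := fun h4 => hpr ((Nat.prime_dvd_prime_iff_eq hp.out hr).1 (hp.out.dvd_of_dvd_pow h4))
    refine row_E7 hr hf hF hpr hd' (inA2F D.rgd (by decide +kernel) (D.size 5) hpq hc) fun h5 => ?_
    rw [← range_k74]
    exact inF_chain D.rgd (by norm_num) k74 hk74 (by norm_num) (by decide) 0 (D.size _) hpq
      (by
        by_cases h4 : p ∣ r ^ f - 1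
        · exact Or.inr h4
        · exact Or.inl fun h6 => h4 (h5 h6))

/-- **`E₆(q)`**. -/
theorem imc_e6 {S : Type u} [Group S] [Finite S] (h : Lie.IsoChevE6 S) (hs : IsSimpleGroup S) {p : ℕ}
    [hp : Fact p.Prime] (hd : p ∣ Nat.card S) : IMC p S := by
  obtain ⟨F, _, _, ⟨e⟩⟩ := h
  obtain ⟨r, f, hr, hf, hF, hch⟩ := exists_prime_pow F
  by_cases hpr : p = r
  · subst hpr
    exact imc_char (Or.inr (Or.inr (Or.inr (Or.inr (Or.inr (Or.inr (Or.inl
      ⟨F, inferInstance, inferInstance, hch, Or.inr (Or.inr (Or.inl ⟨e⟩))⟩))))))) hd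
  refine IMC.of_equiv e ?_
  have hd' : p ∣ Nat.card ↥(Lie.chevE6.group F) := by rwa [← Nat.card_congr e.toEquiv]
  have := finite_group (K := F) Lie.chevE6
  have D := data_E6_3 hr hf hF
  have := D.fin
  have hpq : ¬ p ∣ r ^ f := fun h4 => hpr ((Nat.prime_dvd_prime_iff_eq hp.out hr).1 (hp.out.dvd_of_dvd_pow h4))
  refine row_E6 hr hf hF hpr hd' (inF_node D.rgd 0 2 (by decide +kernel) (by rw [D.size]; exact hpq)) fun h5 => ?_
  rw [← range_k64]
  obtain ⟨θ, d, t, hθ, hf, h1, h2, h3⟩ := exists_chain_deg D.rgd (p₀ := p) (by norm_num) k64 hk64 (by norm_num)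
    (by decide) 0 (D.size _) hpq
      (by
        by_cases h4 : p ∣ r ^ f - 1
        · exact Or.inr h4
        · exact Or.inl fun h6 => h4 (h5 h6))
  exact ⟨θ, hθ, hf, fun h4 => ⟨d, h1, dvd_deg_five hp.out h2 h3 h4⟩⟩

end Cfsg.Agent.H353.IMC
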