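import Cfsg.Agent.H353.IMC.Engine
import Cfsg.Agent.H53.HC.ExcIM
import Cfsg.Agent.H505.Cop.E7Par
import Cfsg.Agent.H505.Cop.E6Par

/-!
# `E₆(q)`, `E₇(q)`, `E₈(q)`, `F₄(q)`, `²E₆(q)`: `IMC p S` from the inputs for the Levi components (S4526, helper353)

`row_E8`, `row_E7`, `row_E6`, `row_F4`, `row_TwE6`.
-/

set_option autoImplicit false
set_option linter.unusedSectionVars false

open Cfsg

namespace Cfsg.Agent.H353.IMC

open Cfsg.Agent.H53.HC Cfsg.Agent.H53.HC.ExcRows Cfsg.Agent.H661.SC Cfsg.Agent.H625.SylConst Cfsg.Agent.H35.ExcIdx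
  Cfsg.Agent.H35.PoinNum Cfsg.Agent.Characters
open CoxeterSystem Cfsg.Agent.ChevalleyStructure.CoxeterGeom Cfsg.Agent.Tits.Roots Cfsg.Agent.Tits.Core
  Cfsg.Agent.Tits.Exchange Cfsg.Agent.Nodes.Reps Cfsg.Agent.Nodes.BNOf Cfsg.Agent.Nodes.StabComb
  Cfsg.Agent.Nodes.Bruhat Cfsg.Agent.Nodes.OppDec Cfsg.Agent.Nodes.LeviDec

universe u

/-! ### Groups of order prime to `p` -/

/-- a group of order prime to `p` -/
theorem fixAll_of_not_dvd {G : Type u} [Group G] [Finite G] {p : ℕ} [hp : Fact p.Prime] (h : ¬ p ∣ Nat.card G)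
    {χ : G → ℂ} (hχ : IsIrrCharacter G χ) : FixAll p χ := by
  intro R hR
  have h1 : R = ⊥ := by
    obtain ⟨n, hn⟩ := IsPGroup.iff_card.1 hR
    rw [Subgroup.eq_bot_iff_card]
    rcases Nat.eq_zero_or_pos n with rfl | h0
    · rw [hn, pow_zero]
    · exfalso
      apply h
      have h2 : p ∣ Nat.card R := by
        rw [hn]
        exact dvd_pow_self p h0.ne'
      exact h2.trans (Subgroup.card_subgroup_dvd_card R)
  subst h1
  have := Fintype.ofFinite (⊥ : Subgroup G)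
  rw [fix_iff]
  have h2 : ∑ z : (⊥ : Subgroup G), χ (z : G) = χ 1 := by
    rw [Fintype.sum_eq_single (1 : (⊥ : Subgroup G)) (fun z hz => absurd (Subsingleton.elim z 1) hz)]
    rfl
  rw [h2]
  exact Core.isIrr_apply_one_ne_zero hχ

/-! ### Arithmetic -/

theorem E_dvd {q m : ℕ} (hq : 2 ≤ q) (hm : 0 < m) : E q m ∣ ((q ^ m - 1 : ℕ) : ℤ) := by
  have h5 : 1 ≤ q ^ m := Nat.one_le_pow _ _ (by omega)
  have h6 := congrArg (fun P : Polynomial ℤ => P.eval (q : ℤ)) (Polynomial.prod_cyclotomic_eq_X_pow_sub_one hm ℤ)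
  simp only [Polynomial.eval_prod, Polynomial.eval_sub, Polynomial.eval_pow, Polynomial.eval_X,
    Polynomial.eval_one] at h6
  rw [Nat.cast_sub h5, Nat.cast_pow, Nat.cast_one, ← h6]
  exact Finset.dvd_prod_of_mem (fun i => (Polynomial.cyclotomic i ℤ).eval (q : ℤ))
    (Nat.mem_divisors.2 ⟨dvd_rfl, by omega⟩)

theorem exists_dvd_of_pr {q s : ℕ} (hs : s.Prime) : ∀ l : List ℕ, s ∣ pr q l → ∃ d ∈ l, s ∣ q ^ d - 1
  | [], h => by
    rw [pr_nil, Nat.dvd_one] at h
    exact absurd h hs.one_lt.ne'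
  | d :: l, h => by
    rw [pr_cons, hs.dvd_mul] at h
    rcases h with h | h
    · exact ⟨d, List.mem_cons_self, h⟩
    · obtain ⟨e, he, h1⟩ := exists_dvd_of_pr hs l h
      exact ⟨e, List.mem_cons_of_mem _ he, h1⟩

/-- **The primes of the order divide the index**, but for one cyclotomic factor. -/
theorem dvd_idx_exc {q : ℕ} (hq : 2 ≤ q) {N : ℕ} {dS dJ : List ℕ} (hS : ∀ d ∈ dS, 0 < d ∧ d < N)
    (hJ : ∀ d ∈ dJ, 0 < d ∧ d < N) {idx : ℕ} (hI : idx * pr q dJ = pr q dS) {x : ℕ}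
    (hchk : ∀ m < N, cnt dJ m ≤ cnt dS m ∧ (2 ≤ m → m ≠ x → 0 < cnt dS m → cnt dJ m < cnt dS m))
    {s : ℕ} (hs : s.Prime) (h : s ∣ pr q dS) (h1 : ¬ s ∣ q - 1) (hx : ¬ s ∣ q ^ x - 1) : s ∣ idx := by
  have hx0 : x ≠ 0 := by
    rintro rfl
    simp at hx
  obtain ⟨d, hd, h2⟩ := exists_dvd_of_pr hs dS h
  have h3 : s ∣ H505.Cop.E8Num.br d q := by
    have h4 : s ∣ H505.Cop.E8Num.br d q * (q - 1) := by
      rwa [H505.Cop.E8Num.br_mul (by omega)]
    exact (hs.dvd_mul.1 h4).resolve_right h1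
  obtain ⟨m, hm, hmd, h4⟩ := H505.Cop.E8Num.exists_E hq (hS d hd).1 hs h3
  have hmN : m < N := lt_of_le_of_lt (Nat.le_of_dvd (hS d hd).1 hmd) (hS d hd).2
  have hmx : m ≠ x := by
    rintro rfl
    apply hx
    exact_mod_cast h4.trans (E_dvd hq (by omega))
  have hc : 0 < cnt dS m := by
    unfold cnt
    rw [List.countP_pos_iff]
    exact ⟨d, hd, by simpa using hmd⟩
  have h5 := (hchk m hmN).2 hm hmx hc
  have h6 := eq_prod hq hS hJ hI fun m hm => (hchk m hm).1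
  have h7 : (s : ℤ) ∣ (idx : ℤ) := by
    rw [h6]
    refine dvd_trans ?_ (Finset.dvd_prod_of_mem _ (Finset.mem_range.2 hmN))
    exact dvd_pow h4 (by omega)
  exact_mod_cast h7

/-- `q ^ 5 ≡ 1`: the smaller powers are not `1` -/
theorem not_dvd_of_five {q s d : ℕ} (h5 : s ∣ q ^ 5 - 1) (h1 : ¬ s ∣ q - 1) (hd0 : 0 < d) (hd : d < 5) :
    ¬ s ∣ q ^ d - 1 := by
  intro h
  apply h1
  have h2 := Nat.dvd_gcd h5 h
  rw [Nat.pow_sub_one_gcd_pow_sub_one] at h2
  have h3 : Nat.gcd 5 d = 1 := by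
    have : d = 1 ∨ d = 2 ∨ d = 3 ∨ d = 4 := by omega
    rcases this with rfl | rfl | rfl | rfl <;> rfl
  rwa [h3, pow_one] at h2

theorem not_dvd_pr_of {q s : ℕ} (hs : s.Prime) : ∀ l : List ℕ, (∀ d ∈ l, ¬ s ∣ q ^ d - 1) → ¬ s ∣ pr q l
  | [], _ => by rw [pr_nil, Nat.dvd_one]; exact hs.one_lt.ne'
  | d :: l, h => by
    rw [pr_cons, hs.dvd_mul, not_or]
    exact ⟨h d List.mem_cons_self, not_dvd_pr_of hs l fun e he => h e (List.mem_cons_of_mem _ he)⟩

/-- the order of `P_J` -/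
theorem not_dvd_card_of {G : Type*} [Group G] [Finite G] {H : Subgroup G} {d r b P P' s : ℕ}
    (hI : H.index * P' = P) (hG : d * Nat.card G = r ^ b * P) (hs : s.Prime)
    (hsr : ¬ s ∣ r) (hP' : ¬ s ∣ P') : ¬ s ∣ Nat.card H := by
  intro h
  have h0 : H.index ≠ 0 := Subgroup.index_ne_zero_of_finite
  have h1 : d * Nat.card H = r ^ b * P' := by
    have h2 := Subgroup.index_mul_card H
    rw [← h2, ← hI] at hG
    have h3 : H.index * (d * Nat.card H) = H.index * (r ^ b * P') := by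
      calc H.index * (d * Nat.card H) = d * (H.index * Nat.card H) := by ring
        _ = r ^ b * (H.index * P') := hG
        _ = _ := by ring
    exact Nat.eq_of_mul_eq_mul_left (Nat.pos_of_ne_zero h0) h3
  have h2 : s ∣ r ^ b * P' := by
    rw [← h1]
    exact Dvd.dvd.mul_left h _
  rcases hs.dvd_mul.1 h2 with h3 | h3
  · exact hsr (hs.dvd_of_dvd_pow h3)
  · exact hP' h3

/-! ### Root group data -/

section rgd

variable {I : Type*} {W : Type*} {Y : Type u} [Fintype I] [DecidableEq I] [Group W] [Group Y] {M : CoxeterMatrix I}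
  {cs : CoxeterSystem M W} {A : I → I → ℤ} {h : IsCartan M A} {p : ℕ} {T : Subgroup Y} {n : I → Y}
  {X : (I → ℤ) → Subgroup Y}

theorem MJ_mono {K J : Set I} (hKJ : K ⊆ J) : MJ cs h X K ≤ MJ cs h X J :=
  RGD.Sup_mono fun _ hx => ⟨hx.1, fun k hk => hx.2 k fun hk' => hk (hKJ hk')⟩

theorem not_dvd_MJ [Finite Y] {K J : Set I} (hKJ : K ⊆ J) (hn : ¬ p ∣ Nat.card ↥(PJ cs h T X J)) :
    ¬ p ∣ Nat.card ↥(MJ cs h X K) := fun h1 =>
  hn (h1.trans (Subgroup.card_dvd_of_le ((MJ_mono hKJ).trans ((MJ_le_LJ J).trans LJ_le_PJ))))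

/-- vectors in the kernel of the Cartan matrix modulo `m` are fixed modulo `m` -/
theorem rep_mod {m : ℤ} {z : I → ℤ} (hz : ∀ i, m ∣ pairing A i z) (w : W) (k : I) : m ∣ rep cs h w z k - z k := by
  induction w using cs.simple_induction_left generalizing k with
  | one => simp
  | mul_simple_left w i ih =>
    rw [rep_mul_apply, rep_simple_eq]
    have h1 : m ∣ pairing A i (rep cs h w z) := by
      have h2 : pairing A i (rep cs h w z) - pairing A i z = ∑ k, A i k * (rep cs h w z k - z k) := by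
        unfold pairing
        rw [← Finset.sum_sub_distrib]
        exact Finset.sum_congr rfl fun k _ => by ring
      have h3 : m ∣ pairing A i (rep cs h w z) - pairing A i z := by
        rw [h2]
        exact Finset.dvd_sum fun k _ => Dvd.dvd.mul_left (ih k) _
      have h4 := dvd_add h3 (hz i)
      rwa [sub_add_cancel] at h4
    have h5 : (rep cs h w z - pairing A i (rep cs h w z) • sr i) k - z k =
        (rep cs h w z k - z k) - pairing A i (rep cs h w z) * sr i k := by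
      rw [Pi.sub_apply, Pi.smul_apply, smul_eq_mul]
      ring
    rw [h5]
    exact dvd_sub (ih k) (Dvd.dvd.mul_right h1 _)

/-- **No element outside `W_J` permutes the simple roots of `J`**, all nodes but `j`. -/
theorem mem_WJ_of_mod {J : Set I} {j : I} (hJ : ∀ i, i ∈ J ↔ i ≠ j) {z : I → ℤ}
    (hz : ∀ i, (3 : ℤ) ∣ pairing A i z) (hj : ¬ (3 : ℤ) ∣ z j) {w : W} (hw : Perm cs h J w) : w ∈ WJ cs J := by
  by_contra hwJ
  have h1 := apply_eq_neg hJ hw hwJ z
  have h2 := rep_mod (cs := cs) (h := h) hz w j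
  rw [h1] at h2
  apply hj
  omega

end rgd

section toF

variable {q l : ℕ} {M : CoxeterMatrix (Fin l)} {A : Fin l → Fin l → ℤ} {h : IsCartan M A} {p : ℕ}
  [hp : Fact p.Prime] {S : Type u} [Group S] [Finite S] {X : (Fin l → ℤ) → Subgroup S}

theorem toInF {K : Set (Fin l)} (hK : In h X K) (hn : ¬ p ∣ Nat.card ↥(MJ M.toCoxeterSystem h X K)) :
    InF p M.toCoxeterSystem h X K := by
  obtain ⟨θ, hθ⟩ := hK
  exact ⟨θ, hθ, fixAll_of_not_dvd hn hθ.irr⟩

theorem toInA2F {k₀ k₁ : Fin l} (hK : InA2 h X q k₀ k₁)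
    (hn : ¬ p ∣ Nat.card ↥(MJ M.toCoxeterSystem h X {k₀, k₁})) : InA2F p M.toCoxeterSystem h X q k₀ k₁ := by
  obtain ⟨θ, hθ, h1, h2⟩ := hK
  exact ⟨θ, hθ, h1, fixAll_of_not_dvd hn hθ.irr, h2⟩

end toF

/-! ### The split groups -/

section split

open Cfsg.Lie Cfsg.Agent.Nodes.RGDChev

variable {K : Type u} [Field K] [Fintype K] {r f : ℕ} (hr : r.Prime) (hf : f ≠ 0)
  (hK : Fintype.card K = r ^ f) [CharP K r] {p : ℕ} [hp : Fact p.Prime]

include hr hf hK in
/-- **`E₈(q)`**, `q` not of order `3` or `5` modulo `p`. -/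
theorem row_E8 (hpr : p ≠ r) (hd : p ∣ Nat.card ↥(chevE8.group K))
    (h2 : InA2F p CoxeterMatrix.E₈.toCoxeterSystem hpE8.isCartan (XX chevE8 8 K) (r ^ f) 2 0)
    (h1 : InF p CoxeterMatrix.E₈.toCoxeterSystem hpE8.isCartan (XX chevE8 8 K) {1})
    (h4 : InF p CoxeterMatrix.E₈.toCoxeterSystem hpE8.isCartan (XX chevE8 8 K) {4, 5, 6, 7}) :
    IMC p ↥(chevE8.group K) := by
  have := finite_group (K := K) chevE8
  have D := data_E8_3 hr hf hK
  have := D.fin
  refine imc_of_one (two_le hr hf) D.rgd D.gg (K' := {1} ∪ {4, 5, 6, 7}) compl8 ?_ (by decide +kernel)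
    (by decide +kernel) (by decide +kernel) un8 h2 (InF.union D.rgd h1 h4 (orth_of hpE8.isCartan ?_)) ?_
  · intro i hi i' hi'
    exact or8a i (by simpa using hi) i' (by simpa using hi')
  · intro i hi i' hi'
    exact or8b i (by simpa using hi) i' (by simpa using hi')
  · by_cases h3 : p ∣ r ^ f - 1
    · exact Or.inl h3
    · exact Or.inr (D.idx p hp.out hd (fun h4 => hpr ((Nat.prime_dvd_prime_iff_eq hp.out hr).1 h4)) h3)

include hr hf hK in
/-- **`F₄(q)`**. -/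
theorem row_F4 (hpr : p ≠ r) (hd : p ∣ Nat.card ↥(chevF4.group K))
    (h2 : InA2F p CoxeterMatrix.F₄.toCoxeterSystem hpF4.isCartan (XX chevF4 4 K) (r ^ f) 1 0)
    (h1 : InF p CoxeterMatrix.F₄.toCoxeterSystem hpF4.isCartan (XX chevF4 4 K) {3}) :
    IMC p ↥(chevF4.group K) := by
  have := finite_group (K := K) chevF4
  have D := data_F4_2 hr hf hK
  have := D.fin
  refine imc_of_one (two_le hr hf) D.rgd D.gg (K' := {3}) compl4 ?_ (by decide +kernel)
    (by decide +kernel) (by decide +kernel) un4 h2 h1 ?_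
  · intro i hi i' hi'
    exact or4 i (by simpa using hi) i' (by simpa using hi')
  · by_cases h3 : p ∣ r ^ f - 1
    · exact Or.inl h3
    · exact Or.inr (D.idx p hp.out hd (fun h4 => hpr ((Nat.prime_dvd_prime_iff_eq hp.out hr).1 h4)) h3)

theorem compl7_4 : ({i | i ≠ 4} : Set (Fin 7)) = {5, 6} ∪ {0, 2, 3, 1} := by
  ext i
  simp only [Set.mem_ofPred_eq, Set.mem_union, Set.mem_insert_iff, Set.mem_singleton_iff]
  revert i; decide

theorem or7_4 : Or m7 [5, 6] [0, 2, 3, 1] := by decide +kernel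

theorem un7_4 : Un m7 4 5 6 := by decide +kernel

theorem dvd_pr_of {d r b P s c : ℕ} (hG : d * c = r ^ b * P) (hs : s.Prime) (hc : s ∣ c) (hr : ¬ s ∣ r) : s ∣ P := by
  have h1 : s ∣ r ^ b * P := by
    rw [← hG]
    exact Dvd.dvd.mul_left hc _
  rcases hs.dvd_mul.1 h1 with h2 | h2
  · exact absurd (hs.dvd_of_dvd_pow h2) hr
  · exact h2

include hK in
omit [CharP K r] in
theorem card_E7 : ∃ d b : ℕ, d * Nat.card ↥(chevE7.group K) = r ^ b * pr (r ^ f) [2, 6, 8, 10, 12, 14, 18] := by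
  refine ⟨Nat.gcd 2 (r ^ f - 1), f * 63, ?_⟩
  have h3 := Cfsg.Agent.S1064.result hK
  rw [pow_mul]
  simp only [pr_cons, pr_nil]
  rw [h3]
  ring

include hK in
omit [CharP K r] in
theorem card_E6 : ∃ d b : ℕ, d * Nat.card ↥(chevE6.group K) = r ^ b * pr (r ^ f) [2, 5, 6, 8, 9, 12] := by
  refine ⟨Nat.gcd 3 (r ^ f - 1), f * 36, ?_⟩
  have h3 := Cfsg.Agent.S1063.result hK
  rw [pow_mul]
  simp only [pr_cons, pr_nil]
  rw [h3]
  ring

include hr hf hK in
/-- **`E₇(q)`**. -/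
theorem row_E7 (hpr : p ≠ r) (hd : p ∣ Nat.card ↥(chevE7.group K))
    (h2 : InA2F p CoxeterMatrix.E₇.toCoxeterSystem hpE7.isCartan (XX chevE7 7 K) (r ^ f) 5 6)
    (h4 : (p ∣ (r ^ f) ^ 5 - 1 → p ∣ r ^ f - 1) →
      InF p CoxeterMatrix.E₇.toCoxeterSystem hpE7.isCartan (XX chevE7 7 K) {0, 2, 3, 1}) :
    IMC p ↥(chevE7.group K) := by
  have := finite_group (K := K) chevE7
  have D := data_E7_3 hr hf hK
  have := D.fin
  have hpr' : ¬ p ∣ r := fun h4 => hpr ((Nat.prime_dvd_prime_iff_eq hp.out hr).1 h4)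
  obtain ⟨d, b, hG⟩ := card_E7 (r := r) (f := f) hK
  by_cases h5 : p ∣ (r ^ f) ^ 5 - 1 ∧ ¬ p ∣ r ^ f - 1
  · -- `q` has order `5`: `P_J`, `J` = all nodes but `3`, has order prime to `p`
    obtain ⟨h5, h6⟩ := h5
    have hn : ¬ p ∣ Nat.card ↥(PJ CoxeterMatrix.E₇.toCoxeterSystem hpE7.isCartan (TT chevE7 K) (XX chevE7 7 K)
        {j | j ≠ 3}) := by
      refine not_dvd_card_of (H505.Cop.E7Num.idx_3 hr hf hK) hG hp.out hpr' (not_dvd_pr_of hp.out _ ?_)
      intro d hd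
      simp only [List.mem_cons, List.not_mem_nil, or_false] at hd
      exact not_dvd_of_five h5 h6 (by omega) (by omega)
    have hsub : ∀ K' : Set (Fin 7), 3 ∉ K' → ¬ p ∣ Nat.card ↥(MJ CoxeterMatrix.E₇.toCoxeterSystem hpE7.isCartan
        (XX chevE7 7 K) K') := fun K' hK' => not_dvd_MJ (fun i hi => by
          rintro rfl
          exact hK' hi) hn
    have i2 : InA2F p CoxeterMatrix.E₇.toCoxeterSystem hpE7.isCartan (XX chevE7 7 K) (r ^ f) 2 0 :=
      toInA2F (ExcIM.in_A2 D (by decide +kernel) rfl) (hsub _ (by simp))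
    have i1 : InF p CoxeterMatrix.E₇.toCoxeterSystem hpE7.isCartan (XX chevE7 7 K) {1} :=
      toInF (in_node D 1 3 (by decide +kernel)) (hsub _ (by simp))
    have i3 : InF p CoxeterMatrix.E₇.toCoxeterSystem hpE7.isCartan (XX chevE7 7 K) {4, 5, 6} :=
      toInF (by rw [← range_k7]; exact in_chain D (by norm_num) k7 hk7) (hsub _ (by simp))
    refine imc_of_one (two_le hr hf) D.rgd D.gg (K' := {1} ∪ {4, 5, 6}) compl7 ?_ (by decide +kernel)
      (by decide +kernel) (by decide +kernel) un7 i2 (InF.union D.rgd i1 i3 (orth_of hpE7.isCartan ?_)) (Or.inr ?_)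
    · intro i hi i' hi'
      exact or7a i (by simpa using hi) i' (by simpa using hi')
    · intro i hi i' hi'
      exact or7b i (by simpa using hi) i' (by simpa using hi')
    · exact D.idx p hp.out hd hpr' h6
  · push Not at h5
    refine imc_of_one (two_le hr hf) D.rgd D.gg (K' := {0, 2, 3, 1}) compl7_4 ?_ (by decide +kernel)
      (by decide +kernel) (by decide +kernel) un7_4 h2 (h4 h5) ?_
    · intro i hi i' hi'
      exact or7_4 i (by simpa using hi) i' (by simpa using hi')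
    · by_cases h3 : p ∣ r ^ f - 1
      · exact Or.inl h3
      · refine Or.inr (dvd_idx_exc (two_le hr hf) (N := 19) (dS := [2, 6, 8, 10, 12, 14, 18])
          (dJ := [1, 2, 3, 4, 5, 2, 3]) (x := 5) (by decide) (by decide) (H505.Cop.E7Num.idx_4 hr hf hK) (by decide)
          hp.out (dvd_pr_of hG hp.out hd hpr') h3 fun h6 => h3 (h5 h6))

theorem compl6_2 : ({i | i ≠ 2} : Set (Fin 6)) = {0} ∪ {1, 3, 4, 5} := by
  ext i
  simp only [Set.mem_ofPred_eq, Set.mem_union, Set.mem_insert_iff, Set.mem_singleton_iff]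
  revert i; decide

theorem or6_2 : Or m6 [0] [1, 3, 4, 5] := by decide +kernel

/-- the entries of the Cartan matrix -/
def a6 (i j : Fin 6) : ℤ := if m6 i j = 1 then 2 else if m6 i j = 3 then -1 else 0

theorem m6_cases : ∀ i j : Fin 6, i = j ∧ m6 i j = 1 ∨ m6 i j = 3 ∨ m6 i j = 2 := by decide +kernel

theorem a6_eq {A : Fin 6 → Fin 6 → ℤ} (h : IsCartan CoxeterMatrix.E₆ A) (i j : Fin 6) : A i j = a6 i j := by
  rcases m6_cases i j with ⟨rfl, h1⟩ | h1 | h1
  · rw [h.diag, a6, if_pos h1]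
  · rw [(cartan_three h h1).1, a6, if_neg (by omega), if_pos h1]
  · rw [(cartan_two h h1).1, a6, if_neg (by omega), if_neg (by omega)]

theorem z6_mod : ∀ i : Fin 6, (3 : ℤ) ∣ ∑ k, a6 i k * (![1, 0, -1, 0, 1, -1] : Fin 6 → ℤ) k := by decide +kernel

include hr hf hK in
/-- **`E₆(q)`**. -/
theorem row_E6 (hpr : p ≠ r) (hd : p ∣ Nat.card ↥(chevE6.group K))
    (h1 : InF p CoxeterMatrix.E₆.toCoxeterSystem hpE6.isCartan (XX chevE6 6 K) {0})
    (h4 : (p ∣ (r ^ f) ^ 5 - 1 → p ∣ r ^ f - 1) →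
      ∃ θ : ↥(MJ CoxeterMatrix.E₆.toCoxeterSystem hpE6.isCartan (XX chevE6 6 K) {1, 3, 4, 5}) → ℂ,
        Cusp CoxeterMatrix.E₆.toCoxeterSystem hpE6.isCartan (XX chevE6 6 K) {1, 3, 4, 5} θ ∧ FixAll p θ ∧
        (p ∣ r ^ f - 1 → ∃ d : ℕ, θ 1 = d ∧ p ∣ d)) :
    IMC p ↥(chevE6.group K) := by
  have := finite_group (K := K) chevE6
  have D := data_E6_3 hr hf hK
  have := D.fin
  have hpr' : ¬ p ∣ r := fun h4 => hpr ((Nat.prime_dvd_prime_iff_eq hp.out hr).1 h4)
  obtain ⟨d, b, hG⟩ := card_E6 (r := r) (f := f) hK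
  by_cases h5 : p ∣ (r ^ f) ^ 5 - 1 ∧ ¬ p ∣ r ^ f - 1
  · -- `q` has order `5`: `P_J`, `J` = all nodes but `3`, has order prime to `p`
    obtain ⟨h5, h6⟩ := h5
    have hn : ¬ p ∣ Nat.card ↥(PJ CoxeterMatrix.E₆.toCoxeterSystem hpE6.isCartan (TT chevE6 K) (XX chevE6 6 K)
        {j | j ≠ 3}) := by
      refine not_dvd_card_of (H505.Cop.E6Num.idx_3 hr hf hK) hG hp.out hpr' (not_dvd_pr_of hp.out _ ?_)
      intro d hd
      simp only [List.mem_cons, List.not_mem_nil, or_false] at hd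
      exact not_dvd_of_five h5 h6 (by omega) (by omega)
    have hsub : ∀ K' : Set (Fin 6), 3 ∉ K' → ¬ p ∣ Nat.card ↥(MJ CoxeterMatrix.E₆.toCoxeterSystem hpE6.isCartan
        (XX chevE6 6 K) K') := fun K' hK' => not_dvd_MJ (fun i hi => by
          rintro rfl
          exact hK' hi) hn
    have i2 : InA2F p CoxeterMatrix.E₆.toCoxeterSystem hpE6.isCartan (XX chevE6 6 K) (r ^ f) 2 0 :=
      toInA2F (ExcIM.in_A2 D (by decide +kernel) rfl) (hsub _ (by simp))
    have i1 : InF p CoxeterMatrix.E₆.toCoxeterSystem hpE6.isCartan (XX chevE6 6 K) {1} :=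
      toInF (in_node D 1 3 (by decide +kernel)) (hsub _ (by simp))
    obtain ⟨α, α', hα, hα', hne⟩ := ExcIM.in_pair D (l₀ := 4) (l₁ := 5) (by decide +kernel)
    have hn45 := hsub {4, 5} (by simp)
    refine imc_of_two (two_le hr hf) D.rgd D.gg (N := {1}) compl6 ?_ ?_ (by decide +kernel) (by decide +kernel)
      (by decide +kernel) (by decide +kernel) (by decide +kernel) (by decide +kernel) un6 i2
      ⟨α, α', hα, hα', fixAll_of_not_dvd hn45 hα.irr, fixAll_of_not_dvd hn45 hα'.irr, hne⟩ i1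
      (Or.inr (D.idx p hp.out hd hpr' h6))
    · intro i hi i' hi'
      exact or6a i (by simpa using hi) i' (by simpa using hi')
    · intro i hi i' hi'
      exact or6b i (by simpa using hi) i' (by simpa using hi')
  · push Not at h5
    obtain ⟨θ, hθ, hθf⟩ := h1
    obtain ⟨θ', hθ', hθf', hdeg⟩ := h4 h5
    have ho := orth_of (K := ({0} : Set (Fin 6))) (K' := {1, 3, 4, 5}) hpE6.isCartan fun i hi i' hi' =>
      or6_2 i (by simpa using hi) i' (by simpa using hi')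
    obtain ⟨ψ, hψ, hψf, hval⟩ := exists_prod_fix D.rgd ho hθ hθf hθ' hθf'
    obtain ⟨e, -, he⟩ := Core.isIrr_apply_one hθ.irr
    have hψ1 : ψ 1 = θ 1 * θ' 1 := by
      obtain ⟨hab, e1⟩ := hval 1 (one_mem _) 1 (one_mem _)
      simp only [mul_one] at e1
      exact e1
    refine imc_of_MJ D.rgd D.gg _ hψ.irr hψf hψ.van (fun w g hg hw hpm => absurd ?_ hw) ?_
    · refine mem_WJ_of_mod (j := 2) (z := ![1, 0, -1, 0, 1, -1]) ?_ ?_ ?_ hpm
      · intro i
        rw [← compl6_2]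
        rfl
      · intro i
        have h3 := z6_mod i
        unfold pairing
        simp only [a6_eq hpE6.isCartan]
        exact h3
      · decide
    · by_cases h3 : p ∣ r ^ f - 1
      · obtain ⟨d', h6, h7⟩ := hdeg h3
        exact Or.inr ⟨e * d', by rw [hψ1, he, h6]; push_cast; ring, Dvd.dvd.mul_left h7 _⟩
      · refine Or.inl ?_
        rw [← compl6_2]
        exact dvd_idx_exc (two_le hr hf) (N := 19) (dS := [2, 5, 6, 8, 9, 12])
          (dJ := [1, 2, 2, 3, 4, 5]) (x := 5) (by decide) (by decide) (H505.Cop.E6Num.idx_2 hr hf hK) (by decide)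
          hp.out (dvd_pr_of hG hp.out hd hpr') h3 fun h6 => h3 (h5 h6)

end split

section tw

open Cfsg.Lie Cfsg.Agent.Nodes

variable {K : Type u} [Field K] [Fintype K] {q : ℕ} {φ : K →+* K}
  {r f : ℕ} (hr : r.Prime) (hf : f ≠ 0) (hq : q = r ^ f) [CharP K r]
  (hφ : ∀ x, φ x = x ^ q) (hqq : ∀ t : K, (t ^ q) ^ q = t) (hK : Fintype.card K = q ^ 2)
  {p : ℕ} [hp : Fact p.Prime]

include hr hf hq hqq hK hφ in
/-- **`²E₆(q)`**. -/
theorem row_TwE6 (hpr : p ≠ r) (hd : p ∣ Nat.card ↥(twistedE6 K q))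
    (h2 : InA2F p CoxeterMatrix.F₄.toCoxeterSystem RGDTwE6.isCartan (RGDTwE6.X φ q) q 1 0)
    (h1 : InF p CoxeterMatrix.F₄.toCoxeterSystem RGDTwE6.isCartan (RGDTwE6.X φ q) {3}) :
    IMC p ↥(twistedE6 K q) := by
  have : Finite ↥(twistedE6 K q) := by
    have : Finite (GL chevE6.Idx K) := by
      have : Finite (Matrix chevE6.Idx chevE6.Idx K) := inferInstance
      infer_instance
    infer_instance
  have D := data_TwE6_2 hr hf hq hφ hqq hK
  have := D.fin
  refine imc_of_one (by rw [hq]; exact two_le hr hf) D.rgd D.gg (K' := {3}) compl4 ?_ (by decide +kernel)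
    (by decide +kernel) (by decide +kernel) un4 h2 h1 ?_
  · intro i hi i' hi'
    exact or4 i (by simpa using hi) i' (by simpa using hi')
  · by_cases h3 : p ∣ q - 1
    · exact Or.inl h3
    · exact Or.inr (D.idx p hp.out hd (fun h4 => hpr ((Nat.prime_dvd_prime_iff_eq hp.out hr).1 h4)) h3)

end tw

end Cfsg.Agent.H353.IMC
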